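import Mathlib
import Groth.Agent.FlatModel.Open

universe u
open AlgebraicGeometry CategoryTheory

set_option backward.isDefEq.respectTransparency.types false

namespace Groth.Agent.FlatLocus

instance respectsIso_flat : (RingHom.toMorphismProperty RingHom.Flat).RespectsIso :=
  RingHom.toMorphismProperty_respectsIso_iff.mp RingHom.Flat.respectsIso

theorem flat_isIso_comp {A B C : CommRingCat.{u}} (e : A ⟶ B) [IsIso e] (g : B ⟶ C) :
    (e ≫ g).hom.Flat ↔ g.hom.Flat :=
  (RingHom.toMorphismProperty RingHom.Flat).cancel_left_of_respectsIso e g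

theorem flat_comp_isIso {A B C : CommRingCat.{u}} (g : A ⟶ B) (e : B ⟶ C) [IsIso e] :
    (g ≫ e).hom.Flat ↔ g.hom.Flat :=
  (RingHom.toMorphismProperty RingHom.Flat).cancel_right_of_respectsIso g e

theorem stalkMap_flat_SpecMap {R S : CommRingCat.{u}} (φ : R ⟶ S) (q : PrimeSpectrum S) :
    letI := φ.hom.toAlgebra
    ((Spec.map φ).stalkMap q).hom.Flat ↔
      Module.Flat R (LocalizedModule q.asIdeal.primeCompl S) := by
  letI := φ.hom.toAlgebra
  have h1 : ((Spec.map φ).stalkMap q).hom.Flat ↔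
      (Localization.localRingHom (q.asIdeal.comap φ.hom) q.asIdeal φ.hom rfl).Flat :=
    (RingHom.toMorphismProperty RingHom.Flat).arrow_mk_iso_iff (Scheme.arrowStalkMapSpecIso φ q)
  rw [h1]
  let p := q.asIdeal.comap φ.hom
  let Rp := Localization.AtPrime p
  let Sq := Localization.AtPrime q.asIdeal
  let ψ : Rp →+* Sq := Localization.localRingHom p q.asIdeal φ.hom rfl
  letI : Algebra Rp Sq := ψ.toAlgebra
  have : IsScalarTower R Rp Sq := IsScalarTower.of_algebraMap_eq fun r => by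
    show algebraMap R Sq r = ψ (algebraMap R Rp r)
    rw [Localization.localRingHom_to_map]
    exact IsScalarTower.algebraMap_apply R S Sq r
  let e : LocalizedModule q.asIdeal.primeCompl S ≃ₗ[S] Sq :=
    IsLocalizedModule.iso q.asIdeal.primeCompl (Algebra.linearMap S Sq)
  have he : Module.Flat R (LocalizedModule q.asIdeal.primeCompl S) ↔ Module.Flat R Sq :=
    ⟨fun _ => Module.Flat.of_linearEquiv (e.restrictScalars R).symm,
      fun _ => Module.Flat.of_linearEquiv (e.restrictScalars R)⟩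
  rw [he, show (Localization.localRingHom p q.asIdeal φ.hom rfl).Flat ↔ Module.Flat Rp Sq from Iff.rfl]
  exact Module.flat_iff_of_isLocalization Rp p.primeCompl Sq

theorem isOpen_flat_locus {X S : Scheme.{u}} (f : X ⟶ S) [LocallyOfFinitePresentation f] :
    IsOpen {x : X | (f.stalkMap x).hom.Flat} := by
  rw [isOpen_iff_forall_mem_open]
  intro x₀ hx₀
  obtain ⟨V, hV, hxV, -⟩ := exists_isAffineOpen_mem_and_subset (U := (⊤ : S.Opens)) (x := f x₀) trivial
  obtain ⟨U, hU, hxU, hUV⟩ := exists_isAffineOpen_mem_and_subset (U := f ⁻¹ᵁ V) (x := x₀) hxV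
  let φ := f.appLE V U hUV
  have hfp : φ.hom.FinitePresentation := f.finitePresentation_appLE hV hU hUV
  have hsq : hU.fromSpec ≫ f = Spec.map φ ≫ hV.fromSpec := (hV.SpecMap_appLE_fromSpec f hU hUV).symm
  have key : ∀ q : Spec Γ(X, U),
      (f.stalkMap (hU.fromSpec q)).hom.Flat ↔ ((Spec.map φ).stalkMap q).hom.Flat := fun q => by
    have h1 : (f.stalkMap (hU.fromSpec q)).hom.Flat ↔ ((hU.fromSpec ≫ f).stalkMap q).hom.Flat := by
      rw [Scheme.Hom.stalkMap_comp]
      exact (flat_comp_isIso _ _).symm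
    have h2 : ((Spec.map φ ≫ hV.fromSpec).stalkMap q).hom.Flat ↔ ((Spec.map φ).stalkMap q).hom.Flat := by
      rw [Scheme.Hom.stalkMap_comp]
      have hiso : ∀ z : Spec Γ(S, V), IsIso (hV.fromSpec.stalkMap z) := fun z => inferInstance
      exact @flat_isIso_comp _ _ _ _ (hiso _) _
    rw [h1, hsq, h2]
  have hopen : IsOpen (hU.fromSpec ⁻¹' {x : X | (f.stalkMap x).hom.Flat}) := by
    let _ : Algebra Γ(S, V) Γ(X, U) := φ.hom.toAlgebra
    have : Algebra.FinitePresentation Γ(S, V) Γ(X, U) := hfp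
    convert! Groth.Agent.FlatModel.isOpen_flatLocus (R := Γ(S, V)) (S := Γ(X, U)) (M := Γ(X, U)) using 1
    ext q
    exact (key q).trans (stalkMap_flat_SpecMap φ q)
  refine ⟨hU.fromSpec '' (hU.fromSpec ⁻¹' {x : X | (f.stalkMap x).hom.Flat}),
    Set.image_preimage_subset _ _, hU.fromSpec.isOpenEmbedding.isOpenMap _ hopen, ?_⟩
  obtain ⟨q, rfl⟩ : x₀ ∈ Set.range hU.fromSpec := by rw [hU.range_fromSpec]; exact hxU
  exact ⟨q, hx₀, rfl⟩

end Groth.Agent.FlatLocus
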